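import Mathlib
import Cfsg.Prelude.Def_Transfer
import Cfsg.Agent.Solvable.Frattini

/-!
# Extraspecial groups: basic facts and the parity of the order
-/

set_option autoImplicit false

open scoped commutatorElement

namespace CfsgLib.ExtraspecialBasic

variable {P : Type*} [Group P] {p : ℕ}

theorem commutator_mem_center (hP : Cfsg.IsExtraspecial p P) (x y : P) :
    ⁅x, y⁆ ∈ Subgroup.center P := by
  rw [← hP.1.2.2, commutator_def]
  exact Subgroup.commutator_mem_commutator (Subgroup.mem_top _) (Subgroup.mem_top _)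

theorem pow_center_eq_one (hP : Cfsg.IsExtraspecial p P) {z : P} (hz : z ∈ Subgroup.center P) :
    z ^ p = 1 := by
  have h : (⟨z, hz⟩ : Subgroup.center P) ^ p = 1 := by
    rw [← hP.2]
    exact pow_card_eq_one'
  exact congrArg Subtype.val h

theorem pow_mem_center [Finite P] [Fact p.Prime] (hP : Cfsg.IsExtraspecial p P) (x : P) :
    x ^ p ∈ Subgroup.center P := by
  rw [← hP.1.2.1]
  exact CfsgLib.Solvable.pow_mem_frattini hP.1.1 x

theorem pow_sq_eq_one [Finite P] [Fact p.Prime] (hP : Cfsg.IsExtraspecial p P) (x : P) :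
    x ^ p ^ 2 = 1 := by
  rw [pow_two, pow_mul]
  exact pow_center_eq_one hP (pow_mem_center hP x)

/-- The homomorphism `y ↦ [x,y]` into the centre. -/
def commHom (hP : Cfsg.IsExtraspecial p P) (x : P) : P →* Subgroup.center P :=
  MonoidHom.mk' (fun y => ⟨⁅x, y⁆, commutator_mem_center hP x y⟩) fun a b => Subtype.ext (by
    show ⁅x, a * b⁆ = ⁅x, a⁆ * ⁅x, b⁆
    have h := Subgroup.mem_center_iff.1 (commutator_mem_center hP x b) a
    calc ⁅x, a * b⁆ = ⁅x, a⁆ * (a * ⁅x, b⁆ * a⁻¹) := by simp only [commutatorElement_def]; group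
      _ = ⁅x, a⁆ * ⁅x, b⁆ := by rw [h, mul_inv_cancel_right])

theorem commHom_apply (hP : Cfsg.IsExtraspecial p P) (x y : P) :
    (commHom hP x y : P) = ⁅x, y⁆ := rfl

theorem commHom_eq_one (hP : Cfsg.IsExtraspecial p P) {x y : P} :
    commHom hP x y = 1 ↔ Commute x y := by
  rw [← OneMemClass.coe_eq_one, commHom_apply, commutatorElement_eq_one_iff_commute]

theorem card_nondegenerate [Finite P] [hp : Fact p.Prime] (hP : Cfsg.IsExtraspecial p P) :
    ∀ (k : ℕ) (D : Subgroup P), Nat.card D ≤ k → Subgroup.center P ≤ D →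
      (∀ z ∈ D, (∀ d ∈ D, Commute z d) → z ∈ Subgroup.center P) →
      ∃ n : ℕ, Nat.card D = p ^ (2 * n + 1) := by
  intro k
  induction k with
  | zero => intro D h; exact absurd h (Nat.not_le.2 Nat.card_pos)
  | succ k ih =>
    intro D hk hZD hnd
    by_cases hD : D ≤ Subgroup.center P
    · exact ⟨0, by rw [le_antisymm hD hZD, hP.2]; simp⟩
    obtain ⟨x, hxD, hxZ⟩ := SetLike.not_le_iff_exists.1 hD
    obtain ⟨y, hyD, hxy⟩ : ∃ y ∈ D, ¬ Commute x y := by
      by_contra h
      push Not at h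
      exact hxZ (hnd x hxD h)
    set F : P →* Subgroup.center P × Subgroup.center P :=
      (commHom hP x).prod (commHom hP y) with hF
    have hc : commHom hP x y ≠ 1 := fun h => hxy ((commHom_eq_one hP).1 h)
    have hc' : commHom hP y x ≠ 1 := fun h => hxy ((commHom_eq_one hP).1 h).symm
    have hcyc : ∀ c : Subgroup.center P, c ≠ 1 → ∀ z, z ∈ Subgroup.zpowers c := fun c hcne z =>
      mem_zpowers_of_prime_card hP.2 hcne
    have hsurj : (D.map F) = ⊤ := by
      rw [eq_top_iff]
      rintro ⟨a, b⟩ -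
      obtain ⟨i, hi⟩ := Subgroup.mem_zpowers_iff.1 (hcyc _ hc a)
      obtain ⟨j, hj⟩ := Subgroup.mem_zpowers_iff.1 (hcyc _ hc' b)
      refine ⟨y ^ i * x ^ j, mul_mem (zpow_mem hyD i) (zpow_mem hxD j), ?_⟩
      have h1 : commHom hP x x = 1 := (commHom_eq_one hP).2 (Commute.refl x)
      have h2 : commHom hP y y = 1 := (commHom_eq_one hP).2 (Commute.refl y)
      simp [hF, MonoidHom.prod_apply, map_mul, map_zpow, h1, h2, hi, hj]
    set K : Subgroup P := D ⊓ F.ker with hK
    have hcard : Nat.card D = Nat.card K * (p * p) := by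
      have h1 := (F.comp D.subtype).ker.card_mul_index
      rw [Subgroup.index_ker] at h1
      have hr : (F.comp D.subtype).range = ⊤ := by
        rw [MonoidHom.range_comp, Subgroup.range_subtype, hsurj]
      rw [hr, Subgroup.card_top, Nat.card_prod, hP.2] at h1
      have e : Nat.card (F.comp D.subtype).ker = Nat.card K := by
        refine Nat.card_congr ⟨fun z => ⟨z.1, z.1.2, z.2⟩, fun z => ⟨⟨z, z.2.1⟩, z.2.2⟩,
          fun z => rfl, fun z => rfl⟩
      rw [e] at h1
      exact h1.symm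
    have hkercomm : ∀ z ∈ F.ker, Commute x z ∧ Commute y z := fun z hz =>
      ⟨(commHom_eq_one hP).1 (congrArg Prod.fst hz), (commHom_eq_one hP).1 (congrArg Prod.snd hz)⟩
    have hp2 : 2 ≤ p := hp.out.two_le
    have hKlt : Nat.card K ≤ k := by
      have h1 : 0 < Nat.card K := Nat.card_pos
      have h4 : 4 ≤ p * p := Nat.mul_le_mul hp2 hp2
      nlinarith
    have hZK : Subgroup.center P ≤ K := fun z hz => ⟨hZD hz, Prod.ext
      ((commHom_eq_one hP).2 (Subgroup.mem_center_iff.1 hz x))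
      ((commHom_eq_one hP).2 (Subgroup.mem_center_iff.1 hz y))⟩
    obtain ⟨n, hn⟩ := ih K hKlt hZK (by
      intro z hz hzK
      refine hnd z hz.1 fun d hd => ?_
      obtain ⟨i, hi⟩ := Subgroup.mem_zpowers_iff.1 (hcyc _ hc (commHom hP x d))
      obtain ⟨j, hj⟩ := Subgroup.mem_zpowers_iff.1 (hcyc _ hc' (commHom hP y d))
      set e := y ^ i * x ^ j with he
      have hee : e ∈ D := mul_mem (zpow_mem hyD i) (zpow_mem hxD j)
      have h1 : commHom hP x x = 1 := (commHom_eq_one hP).2 (Commute.refl x)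
      have h2 : commHom hP y y = 1 := (commHom_eq_one hP).2 (Commute.refl y)
      have hFd : F d = F e := by
        simp [hF, he, MonoidHom.prod_apply, map_mul, map_zpow, h1, h2, hi, hj]
      have hd' : e⁻¹ * d ∈ K := by
        refine Subgroup.mem_inf.2 ⟨mul_mem (inv_mem hee) hd, ?_⟩
        simp [hFd]
      have hd'' : d = e * (e⁻¹ * d) := by group
      rw [hd'']
      obtain ⟨hzx, hzy⟩ := hkercomm z hz.2
      exact ((hzy.symm.zpow_right i).mul_right (hzx.symm.zpow_right j)).mul_right (hzK _ hd'))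
    refine ⟨n + 1, ?_⟩
    rw [hcard, hn]
    ring

theorem center_ne_top [hp : Fact p.Prime] (hP : Cfsg.IsExtraspecial p P) :
    Subgroup.center P ≠ ⊤ := by
  intro h
  have hb : Subgroup.center P = ⊥ := by
    rw [← hP.1.2.2, commutator_def, Subgroup.commutator_eq_bot_iff_le_centralizer]
    intro a _
    rw [Subgroup.mem_centralizer_iff]
    intro b _
    exact Subgroup.mem_center_iff.1 (h ▸ Subgroup.mem_top a) b
  have h2 := hP.2
  rw [hb, Subgroup.card_bot] at h2
  exact hp.out.ne_one h2.symm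

/-- An extraspecial group has order `p ^ (2n+1)` with `n ≥ 1`. -/
theorem exists_card_eq [Finite P] [Fact p.Prime] (hP : Cfsg.IsExtraspecial p P) :
    ∃ n : ℕ, 1 ≤ n ∧ Nat.card P = p ^ (2 * n + 1) := by
  obtain ⟨n, hn⟩ := card_nondegenerate hP _ ⊤ le_rfl le_top fun z _ h =>
    Subgroup.mem_center_iff.2 fun g => (h g (Subgroup.mem_top g)).eq.symm
  rw [Subgroup.card_top] at hn
  refine ⟨n, Nat.one_le_iff_ne_zero.2 ?_, hn⟩
  rintro rfl
  refine center_ne_top hP (Subgroup.eq_top_of_card_eq _ ?_)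
  rw [hP.2, hn]
  simp

end CfsgLib.ExtraspecialBasic
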