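import Cfsg.Agent.ExtraspecialBasic.Order

/-!
# Extraspecial groups: centralizers of subgroups above the centre

`card_centralizer_mul_card` and `centralizer_centralizer`: the commutator form is a perfect
pairing.
-/

set_option autoImplicit false

namespace CfsgLib.ExtraspecialBasic

open Subgroup

variable {P : Type*} [Group P] {p : ℕ}

/-- The centralizer of one element has index at most `p`. -/
theorem card_le_mul_card_inf_centralizer [Finite P] [Fact p.Prime] (hP : Cfsg.IsExtraspecial p P)
    (C : Subgroup P) (x : P) :
    Nat.card C ≤ p * Nat.card (C ⊓ centralizer ({x} : Set P) : Subgroup P) := by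
  set f := (commHom hP x).comp C.subtype with hf
  have h1 := f.ker.card_mul_index
  rw [index_ker] at h1
  have e : Nat.card f.ker = Nat.card (C ⊓ centralizer ({x} : Set P) : Subgroup P) :=
    Nat.card_congr
      { toFun := fun z => ⟨z.1, z.1.2, mem_centralizer_singleton_iff.2
          ((commHom_eq_one hP).1 (MonoidHom.mem_ker.1 z.2)).eq.symm⟩
        invFun := fun z => ⟨⟨z, z.2.1⟩, MonoidHom.mem_ker.2
          ((commHom_eq_one hP).2 (mem_centralizer_singleton_iff.1 z.2.2).symm)⟩
        left_inv := fun z => rfl
        right_inv := fun z => rfl }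
  rw [← h1, e, mul_comm p]
  exact Nat.mul_le_mul_left _ ((Finite.card_subtype_le _).trans hP.2.le)

/-- `|C(K)| |K|` is monotone. -/
theorem card_centralizer_mul_card_mono [Finite P] [hp : Fact p.Prime]
    (hP : Cfsg.IsExtraspecial p P) {K L : Subgroup P} (hKL : K ≤ L) :
    Nat.card (centralizer (K : Set P)) * Nat.card K ≤
      Nat.card (centralizer (L : Set P)) * Nat.card L := by
  induction hn : Nat.card L - Nat.card K using Nat.strong_induction_on generalizing K with
  | _ n ih =>
    rcases hKL.eq_or_lt with rfl | hlt
    · rfl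
    obtain ⟨x, hxL, hxK⟩ := SetLike.exists_of_lt hlt
    set K' := K ⊔ zpowers x with hK'
    have hK'L : K' ≤ L := sup_le hKL (zpowers_le.2 hxL)
    have hKK' : K < K' := lt_of_le_of_ne le_sup_left fun h =>
      hxK (h.symm ▸ mem_sup_right (mem_zpowers x))
    have hlt' : Nat.card K < Nat.card K' := by
      rcases (card_le_of_le hKK'.le).lt_or_eq with h | h
      · exact h
      · exact absurd (eq_of_le_of_card_ge hKK'.le h.ge) hKK'.ne
    have hple : p * Nat.card K ≤ Nat.card K' := by
      obtain ⟨m, hm⟩ := card_dvd_of_le hKK'.le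
      have hpG : IsPGroup p K' := hP.1.1.to_subgroup K'
      have hm1 : m ≠ 1 := fun h => by rw [h, mul_one] at hm; exact hlt'.ne hm.symm
      obtain ⟨i, hi⟩ := IsPGroup.iff_card.1 hpG
      obtain ⟨j, -, hj⟩ := (Nat.dvd_prime_pow hp.out).1 (hi ▸ Dvd.intro_left _ hm.symm :
        m ∣ p ^ i)
      have hj0 : j ≠ 0 := fun h => hm1 (by rw [hj, h, pow_zero])
      rw [hm, mul_comm p]
      exact Nat.mul_le_mul_left _ (hj ▸ Nat.le_self_pow hj0 p)
    have hC : Nat.card (centralizer (K : Set P)) ≤ p * Nat.card (centralizer (K' : Set P)) := by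
      refine (card_le_mul_card_inf_centralizer hP _ x).trans
        (Nat.mul_le_mul_left _ (card_le_of_le ?_))
      intro y hy
      have hy' : y ∈ centralizer (K : Set P) ∧ y ∈ centralizer ({x} : Set P) := mem_inf.1 hy
      rw [mem_centralizer_iff]
      intro k hk
      have hle : K' ≤ centralizer ({y} : Set P) := sup_le
        (fun a ha => mem_centralizer_singleton_iff.2 (mem_centralizer_iff.1 hy'.1 a ha))
        (zpowers_le.2 (mem_centralizer_singleton_iff.2
          (mem_centralizer_singleton_iff.1 hy'.2).symm))
      exact mem_centralizer_singleton_iff.1 (hle hk)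
    refine le_trans ?_ (ih _ ?_ hK'L rfl)
    · calc Nat.card (centralizer (K : Set P)) * Nat.card K
          ≤ p * Nat.card (centralizer (K' : Set P)) * Nat.card K := Nat.mul_le_mul_right _ hC
        _ = Nat.card (centralizer (K' : Set P)) * (p * Nat.card K) := by ring
        _ ≤ _ := Nat.mul_le_mul_left _ hple
    · have := card_le_of_le hK'L
      omega

/-- The commutator form is a perfect pairing. -/
theorem card_centralizer_mul_card [Finite P] [Fact p.Prime] (hP : Cfsg.IsExtraspecial p P)
    {K : Subgroup P} (hK : center P ≤ K) :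
    Nat.card (centralizer (K : Set P)) * Nat.card K = Nat.card P * p := by
  have hc : centralizer ((center P : Subgroup P) : Set P) = ⊤ :=
    eq_top_iff.2 fun y _ => mem_centralizer_iff.2 fun z hz => (mem_center_iff.1 hz y).symm
  refine le_antisymm ?_ ?_
  · refine (card_centralizer_mul_card_mono hP (le_top : K ≤ ⊤)).trans (le_of_eq ?_)
    rw [coe_top, centralizer_univ, hP.2, card_top, mul_comm]
  · refine le_trans (le_of_eq ?_) (card_centralizer_mul_card_mono hP hK)
    rw [hc, card_top, hP.2]

/-- Double centralizer property in an extraspecial group. -/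
theorem centralizer_centralizer [Finite P] [Fact p.Prime] (hP : Cfsg.IsExtraspecial p P)
    {K : Subgroup P} (hK : center P ≤ K) :
    centralizer ((centralizer (K : Set P) : Subgroup P) : Set P) = K := by
  set C := centralizer (K : Set P) with hC
  have hle : K ≤ centralizer (C : Set P) := le_centralizer_iff.1 le_rfl
  refine (eq_of_le_of_card_ge hle ?_).symm
  have hZC : center P ≤ C := center_le_centralizer _
  have h1 := card_centralizer_mul_card hP hK
  have h2 := card_centralizer_mul_card hP hZC
  rw [← h2, mul_comm] at h1
  exact (Nat.eq_of_mul_eq_mul_right (Nat.card_pos (α := C)) h1).ge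

end CfsgLib.ExtraspecialBasic
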